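import Cfsg.Agent.Lib.Presented.Fi23Mult.Data

/-!
# Identities of Fi₂₃ checked in the permutation representation

The check is cut by words and by bit slices to keep each kernel computation small.
-/

set_option autoImplicit false
set_option maxRecDepth 8000
set_option Elab.async false

namespace CfsgLib.Fi23Mult

open CfsgLib.Presented

/-- The word of a transposition. -/
def palW (d : List ℕ × ℕ) : List ℕ := d.1 ++ [d.2] ++ d.1.reverse

/-- The word of a transposition of the six. -/
def rW (i : ℕ) : List ℕ := palW (reflData.getD i ([], 0))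

/-- The word of a root element. -/
def wW (i : ℕ) : List ℕ := rW i ++ palW (partData.getD i ([], 0))

/-- The word of the last translation. -/
def tW : List ℕ := [9] ++ palW lastPart

/-- The word of a product of powers of root elements. -/
def vecW (v : List ℕ) : List ℕ := (List.range 6).flatMap fun i => wpow (wW i) (v.getD i 0)

/-- The word of the transposition reached. -/
def reachW : List ℕ :=
  vecW shiftVec ++ pathRefl.flatMap rW ++ rW 3 ++ (pathRefl.flatMap rW).reverse ++
    (vecW shiftVec).reverse

/-- The pairs of root elements whose commutators are checked. -/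
def commPairs : List (ℕ × ℕ) :=
  [(1, 0), (2, 0), (0, 3), (4, 0), (5, 0), (1, 2), (1, 3), (1, 4), (1, 5), (2, 3), (2, 4), (2, 5), (4, 3), (5, 3),
    (4, 5)]

/-- The transpositions used in the chosen path. -/
def pathSet : List ℕ := [1, 2, 4, 5]

/-- The pairs for which the action is checked. -/
def actPairs : List (ℕ × ℕ) := (pathSet.flatMap fun i => (List.range 6).map fun j => (i, j)) ++ [(0, 3)]

/-- The identities checked in the permutation representation. -/
def checkedWords : List (List ℕ) :=
  ((List.range 6).map fun i => wpow (wW i) 3) ++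
  [wpow tW 3, reachW ++ [9], vecW lastVec ++ tW.reverse] ++
  (commPairs.map fun p => wW p.1 ++ wW p.2 ++ (wW p.1).reverse ++ (wW p.2).reverse) ++
  (actPairs.map fun p =>
    rW p.1 ++ wW p.2 ++ rW p.1 ++ (wW p.2 ++ wpow (wW p.1) ((actMat.getD p.1 []).getD p.2 0)).reverse)

/-- Chunk `c` of the checked words. -/
def chunkW (c : ℕ) : List (List ℕ) :=
  let lo := [0, 16, 29, 44, 49].getD c 0
  (checkedWords.drop lo).take ([0, 16, 29, 44, 49].getD (c + 1) 0 - lo)

/-- The words fix the bit slice `k`. -/
noncomputable def sliceOK (R : Rep) (ws : List (List ℕ)) (k : ℕ) : Bool :=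
  ws.all fun w => Vec.agreeOn R.N (Vec.applyNet (R.netW w) ((Vec.slices R.m).getD k 0)) ((Vec.slices R.m).getD k 0)

theorem slice_0_0 : sliceOK Fi23Cert.rep (chunkW 0) 0 = true := by decide +kernel
theorem slice_0_1 : sliceOK Fi23Cert.rep (chunkW 0) 1 = true := by decide +kernel
theorem slice_0_2 : sliceOK Fi23Cert.rep (chunkW 0) 2 = true := by decide +kernel
theorem slice_0_3 : sliceOK Fi23Cert.rep (chunkW 0) 3 = true := by decide +kernel
theorem slice_0_4 : sliceOK Fi23Cert.rep (chunkW 0) 4 = true := by decide +kernel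
theorem slice_0_5 : sliceOK Fi23Cert.rep (chunkW 0) 5 = true := by decide +kernel
theorem slice_0_6 : sliceOK Fi23Cert.rep (chunkW 0) 6 = true := by decide +kernel
theorem slice_0_7 : sliceOK Fi23Cert.rep (chunkW 0) 7 = true := by decide +kernel
theorem slice_0_8 : sliceOK Fi23Cert.rep (chunkW 0) 8 = true := by decide +kernel
theorem slice_0_9 : sliceOK Fi23Cert.rep (chunkW 0) 9 = true := by decide +kernel
theorem slice_0_10 : sliceOK Fi23Cert.rep (chunkW 0) 10 = true := by decide +kernel
theorem slice_0_11 : sliceOK Fi23Cert.rep (chunkW 0) 11 = true := by decide +kernel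
theorem slice_0_12 : sliceOK Fi23Cert.rep (chunkW 0) 12 = true := by decide +kernel
theorem slice_0_13 : sliceOK Fi23Cert.rep (chunkW 0) 13 = true := by decide +kernel
theorem slice_0_14 : sliceOK Fi23Cert.rep (chunkW 0) 14 = true := by decide +kernel
theorem slice_1_0 : sliceOK Fi23Cert.rep (chunkW 1) 0 = true := by decide +kernel
theorem slice_1_1 : sliceOK Fi23Cert.rep (chunkW 1) 1 = true := by decide +kernel
theorem slice_1_2 : sliceOK Fi23Cert.rep (chunkW 1) 2 = true := by decide +kernel
theorem slice_1_3 : sliceOK Fi23Cert.rep (chunkW 1) 3 = true := by decide +kernel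
theorem slice_1_4 : sliceOK Fi23Cert.rep (chunkW 1) 4 = true := by decide +kernel
theorem slice_1_5 : sliceOK Fi23Cert.rep (chunkW 1) 5 = true := by decide +kernel
theorem slice_1_6 : sliceOK Fi23Cert.rep (chunkW 1) 6 = true := by decide +kernel
theorem slice_1_7 : sliceOK Fi23Cert.rep (chunkW 1) 7 = true := by decide +kernel
theorem slice_1_8 : sliceOK Fi23Cert.rep (chunkW 1) 8 = true := by decide +kernel
theorem slice_1_9 : sliceOK Fi23Cert.rep (chunkW 1) 9 = true := by decide +kernel
theorem slice_1_10 : sliceOK Fi23Cert.rep (chunkW 1) 10 = true := by decide +kernel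
theorem slice_1_11 : sliceOK Fi23Cert.rep (chunkW 1) 11 = true := by decide +kernel
theorem slice_1_12 : sliceOK Fi23Cert.rep (chunkW 1) 12 = true := by decide +kernel
theorem slice_1_13 : sliceOK Fi23Cert.rep (chunkW 1) 13 = true := by decide +kernel
theorem slice_1_14 : sliceOK Fi23Cert.rep (chunkW 1) 14 = true := by decide +kernel
theorem slice_2_0 : sliceOK Fi23Cert.rep (chunkW 2) 0 = true := by decide +kernel
theorem slice_2_1 : sliceOK Fi23Cert.rep (chunkW 2) 1 = true := by decide +kernel
theorem slice_2_2 : sliceOK Fi23Cert.rep (chunkW 2) 2 = true := by decide +kernel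
theorem slice_2_3 : sliceOK Fi23Cert.rep (chunkW 2) 3 = true := by decide +kernel
theorem slice_2_4 : sliceOK Fi23Cert.rep (chunkW 2) 4 = true := by decide +kernel
theorem slice_2_5 : sliceOK Fi23Cert.rep (chunkW 2) 5 = true := by decide +kernel
theorem slice_2_6 : sliceOK Fi23Cert.rep (chunkW 2) 6 = true := by decide +kernel
theorem slice_2_7 : sliceOK Fi23Cert.rep (chunkW 2) 7 = true := by decide +kernel
theorem slice_2_8 : sliceOK Fi23Cert.rep (chunkW 2) 8 = true := by decide +kernel
theorem slice_2_9 : sliceOK Fi23Cert.rep (chunkW 2) 9 = true := by decide +kernel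
theorem slice_2_10 : sliceOK Fi23Cert.rep (chunkW 2) 10 = true := by decide +kernel
theorem slice_2_11 : sliceOK Fi23Cert.rep (chunkW 2) 11 = true := by decide +kernel
theorem slice_2_12 : sliceOK Fi23Cert.rep (chunkW 2) 12 = true := by decide +kernel
theorem slice_2_13 : sliceOK Fi23Cert.rep (chunkW 2) 13 = true := by decide +kernel
theorem slice_2_14 : sliceOK Fi23Cert.rep (chunkW 2) 14 = true := by decide +kernel
theorem slice_3_0 : sliceOK Fi23Cert.rep (chunkW 3) 0 = true := by decide +kernel
theorem slice_3_1 : sliceOK Fi23Cert.rep (chunkW 3) 1 = true := by decide +kernel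
theorem slice_3_2 : sliceOK Fi23Cert.rep (chunkW 3) 2 = true := by decide +kernel
theorem slice_3_3 : sliceOK Fi23Cert.rep (chunkW 3) 3 = true := by decide +kernel
theorem slice_3_4 : sliceOK Fi23Cert.rep (chunkW 3) 4 = true := by decide +kernel
theorem slice_3_5 : sliceOK Fi23Cert.rep (chunkW 3) 5 = true := by decide +kernel
theorem slice_3_6 : sliceOK Fi23Cert.rep (chunkW 3) 6 = true := by decide +kernel
theorem slice_3_7 : sliceOK Fi23Cert.rep (chunkW 3) 7 = true := by decide +kernel
theorem slice_3_8 : sliceOK Fi23Cert.rep (chunkW 3) 8 = true := by decide +kernel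
theorem slice_3_9 : sliceOK Fi23Cert.rep (chunkW 3) 9 = true := by decide +kernel
theorem slice_3_10 : sliceOK Fi23Cert.rep (chunkW 3) 10 = true := by decide +kernel
theorem slice_3_11 : sliceOK Fi23Cert.rep (chunkW 3) 11 = true := by decide +kernel
theorem slice_3_12 : sliceOK Fi23Cert.rep (chunkW 3) 12 = true := by decide +kernel
theorem slice_3_13 : sliceOK Fi23Cert.rep (chunkW 3) 13 = true := by decide +kernel
theorem slice_3_14 : sliceOK Fi23Cert.rep (chunkW 3) 14 = true := by decide +kernel

theorem checked_small : checkedWords.all (fun w => w.all fun y => Nat.blt y Fi23Cert.rep.A.eps) = true := by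
  decide +kernel

theorem chunks_cover : checkedWords = chunkW 0 ++ chunkW 1 ++ chunkW 2 ++ chunkW 3 := by decide +kernel

theorem rep_m : Fi23Cert.rep.m = 15 := by decide +kernel

theorem checked_ok : Fi23Cert.rep.relsOK checkedWords = true := by
  have hs := checked_small
  have hsl : ∀ c < 4, ∀ k < 15, sliceOK Fi23Cert.rep (chunkW c) k = true := by
    intro c hc k hk
    interval_cases c <;> interval_cases k
    exacts [slice_0_0, slice_0_1, slice_0_2, slice_0_3, slice_0_4, slice_0_5, slice_0_6, slice_0_7, slice_0_8, slice_0_9, slice_0_10, slice_0_11, slice_0_12, slice_0_13, slice_0_14, slice_1_0, slice_1_1, slice_1_2, slice_1_3, slice_1_4, slice_1_5, slice_1_6, slice_1_7, slice_1_8, slice_1_9, slice_1_10, slice_1_11, slice_1_12, slice_1_13, slice_1_14, slice_2_0, slice_2_1, slice_2_2, slice_2_3, slice_2_4, slice_2_5, slice_2_6, slice_2_7, slice_2_8, slice_2_9, slice_2_10, slice_2_11, slice_2_12, slice_2_13, slice_2_14, slice_3_0, slice_3_1, slice_3_2, slice_3_3, slice_3_4, slice_3_5, slice_3_6, slice_3_7, slice_3_8, slice_3_9,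 slice_3_10, slice_3_11, slice_3_12, slice_3_13, slice_3_14]
  simp only [Rep.relsOK, List.all_eq_true, Bool.and_eq_true] at hs ⊢
  refine fun w hw => ⟨hs w hw, ?_⟩
  simp only [Rep.idOn, List.all_eq_true]
  intro s hmem
  obtain ⟨k, hk, rfl⟩ := List.getElem_of_mem hmem
  have hk15 : k < 15 := by rw [(Vec.slices_spec _).1, rep_m] at hk; exact hk
  rw [chunks_cover, List.mem_append, List.mem_append, List.mem_append] at hw
  have key : ∀ c < 4, w ∈ chunkW c → Vec.agreeOn Fi23Cert.rep.N (Vec.applyNet (Fi23Cert.rep.netW w) ((Vec.slices Fi23Cert.rep.m)[k])) ((Vec.slices Fi23Cert.rep.m)[k]) = true := fun c hc hwc => by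
    have h := hsl c hc k hk15
    simp only [sliceOK, List.all_eq_true] at h
    have h2 := h w hwc
    rw [List.getD_eq_getElem _ _ hk] at h2
    exact h2
  rcases hw with ((h | h) | h) | h
  exacts [key 0 (by decide) h, key 1 (by decide) h, key 2 (by decide) h, key 3 (by decide) h]

end CfsgLib.Fi23Mult
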