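import Cfsg.Agent.Lib.Presented.Word

/-!
# Checked rewriting of words by commutations, braid moves and cancellations

The letters stand for elements with a common central square; letters joined in a graph satisfy the
braid relation, the others commute.
-/

set_option autoImplicit false

namespace CfsgLib.Fi23Mult

open CfsgLib.Presented

/-- Adjacency from a list of edges. -/
def adjB (E : List (ℕ × ℕ)) (x y : ℕ) : Bool := E.contains (x, y) || E.contains (y, x)

/-- A move, coded as three times the position plus the kind (commute, braid, cancel). -/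
def stepW (E : List (ℕ × ℕ)) (l : List ℕ) (code : ℕ) : Option (List ℕ) :=
  let p := code / 3
  match code % 3, l.drop p with
  | 0, x :: y :: r =>
    if Nat.blt x 10 && Nat.blt y 10 && !(Nat.beq x y) && !(adjB E x y) then
      some (l.take p ++ y :: x :: r) else none
  | 1, x :: y :: z :: r =>
    if Nat.blt x 10 && Nat.blt y 10 && Nat.beq x z && adjB E x y then
      some (l.take p ++ y :: x :: y :: r) else none
  | 2, x :: y :: r => if Nat.blt x 10 && Nat.beq x y then some (l.take p ++ r) else none
  | _, _ => none

/-- A sequence of moves. -/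
def runW (E : List (ℕ × ℕ)) : List ℕ → List ℕ → Option (List ℕ)
  | l, [] => some l
  | l, m :: ms => match stepW E l m with
    | some l' => runW E l' ms
    | none => none

/-- Two words are brought to the same word. -/
def sameW (E : List (ℕ × ℕ)) (u mu v mv : List ℕ) : Bool :=
  match runW E u mu, runW E v mv with
  | some a, some b => decide (a = b)
  | _, _ => false

variable {Γ : Type*} [Group Γ]

/-- The elements attached to the letters satisfy the relations, with common square `c`. -/
structure Holds (E : List (ℕ × ℕ)) (S : ℕ → Γ) (c : Γ) : Prop where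
  sq : ∀ x < 10, S x * S x = c
  central : ∀ g, Commute c g
  comm : ∀ x < 10, ∀ y < 10, x ≠ y → adjB E x y = false → S x * S y = S y * S x
  braid : ∀ x < 10, ∀ y < 10, adjB E x y = true → S x * S y * S x = S y * S x * S y

variable {E : List (ℕ × ℕ)} {S : ℕ → Γ} {c : Γ} (H : Holds E S c)
include H

theorem Holds.step_sound {l l' : List ℕ} {code : ℕ} (h : stepW E l code = some l') :
    ∃ k, l.length = l'.length + 2 * k ∧ evW S l = c ^ k * evW S l' := by
  unfold stepW at h
  simp only at h
  set p := code / 3
  have hl : l = l.take p ++ l.drop p := (List.take_append_drop p l).symm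
  split at h
  · next x y r _ hd =>
    split at h
    · next hcond =>
      simp only [Bool.and_eq_true, Nat.blt_eq, Bool.not_eq_true'] at hcond
      obtain ⟨⟨⟨hx, hy⟩, hne⟩, hadj⟩ := hcond
      have hne' : x ≠ y := fun e => by simp [e] at hne
      obtain rfl := Option.some.inj h
      rw [hd] at hl
      refine ⟨0, (by have hlen := congrArg List.length hl; simp at hlen ⊢; omega), ?_⟩
      rw [congrArg (evW S) hl]
      simp only [evW_append, evW_cons, pow_zero, one_mul]
      rw [← mul_assoc (S x), H.comm x hx y hy hne' hadj, mul_assoc]
    · simp at h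
  · next x y z r _ hd =>
    split at h
    · next hcond =>
      simp only [Bool.and_eq_true, Nat.blt_eq] at hcond
      obtain ⟨⟨⟨hx, hy⟩, hz⟩, hadj⟩ := hcond
      obtain rfl := Nat.eq_of_beq_eq_true hz
      obtain rfl := Option.some.inj h
      rw [hd] at hl
      refine ⟨0, (by have hlen := congrArg List.length hl; simp at hlen ⊢; omega), ?_⟩
      rw [congrArg (evW S) hl]
      simp only [evW_append, evW_cons, pow_zero, one_mul, ← mul_assoc]
      rw [mul_assoc (evW S (l.take p)) (S x) (S y), mul_assoc (evW S (l.take p)) (S x * S y) (S x),
        H.braid x hx y hy hadj, ← mul_assoc, ← mul_assoc]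
    · simp at h
  · next x y r _ hd =>
    split at h
    · next hcond =>
      simp only [Bool.and_eq_true, Nat.blt_eq] at hcond
      obtain ⟨hx, hxy⟩ := hcond
      obtain rfl := Nat.eq_of_beq_eq_true hxy
      obtain rfl := Option.some.inj h
      rw [hd] at hl
      refine ⟨1, (by have hlen := congrArg List.length hl; simp at hlen ⊢; omega), ?_⟩
      rw [congrArg (evW S) hl]
      simp only [evW_append, evW_cons, pow_one]
      rw [← mul_assoc (S x), H.sq x hx, ← mul_assoc, ← (H.central _).eq, mul_assoc]
    · simp at h
  · simp at h

theorem Holds.run_sound : ∀ (ms : List ℕ) {l l' : List ℕ}, runW E l ms = some l' →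
    ∃ k, l.length = l'.length + 2 * k ∧ evW S l = c ^ k * evW S l'
  | [], l, l', h => ⟨0, by simp [runW] at h; subst h; simp, by simp [runW] at h; subst h; simp⟩
  | m :: ms, l, l', h => by
    rw [runW] at h
    cases hs : stepW E l m with
    | none => simp [hs] at h
    | some l₁ =>
      simp only [hs] at h
      obtain ⟨k₁, a₁, b₁⟩ := H.step_sound hs
      obtain ⟨k₂, a₂, b₂⟩ := Holds.run_sound ms h
      exact ⟨k₁ + k₂, by omega, by rw [b₁, b₂, pow_add, mul_assoc]⟩

/-- Words of equal length brought to the same word have equal values. -/
theorem Holds.eq_of_sameW {u mu v mv : List ℕ} (h : sameW E u mu v mv = true)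
    (hlen : u.length = v.length) : evW S u = evW S v := by
  unfold sameW at h
  split at h
  · next a b ha hb =>
    obtain rfl := of_decide_eq_true h
    obtain ⟨k₁, a₁, b₁⟩ := H.run_sound mu ha
    obtain ⟨k₂, a₂, b₂⟩ := H.run_sound mv hb
    rw [b₁, b₂, show k₁ = k₂ by omega]
  · simp at h

/-- Words brought to the same word have equal values when the squares are trivial. -/
theorem Holds.eq_of_sameW' (hc : c = 1) {u mu v mv : List ℕ} (h : sameW E u mu v mv = true) :
    evW S u = evW S v := by
  unfold sameW at h
  split at h
  · next a b ha hb =>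
    obtain rfl := of_decide_eq_true h
    obtain ⟨k₁, -, b₁⟩ := H.run_sound mu ha
    obtain ⟨k₂, -, b₂⟩ := H.run_sound mv hb
    rw [b₁, b₂, hc, one_pow, one_pow]
  · simp at h

end CfsgLib.Fi23Mult
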