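import Cfsg.Agent.Lib.Presented.Fi23Cosets
import Cfsg.Agent.Lib.Presented.Fi23Mult.Moves
import Cfsg.Agent.Lib.Schur.Criteria

/-!
# Lifts of the Coxeter generators of Fi₂₃ to a central extension

The lifts can be chosen to be involutions satisfying the braid and commutation relations and the
relation of the subdiagram of type E₇.
-/

set_option autoImplicit false
set_option maxRecDepth 8000

namespace CfsgLib.Fi23Mult

open CfsgLib.Presented
open CfsgLib.Presented.Fi23Cosets (ev rels_hold)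
open scoped commutatorElement

/-- The edges of the diagram. -/
def edgesY : List (ℕ × ℕ) :=
  [(0, 1), (1, 2), (2, 3), (3, 4), (3, 8), (4, 5), (5, 6), (6, 7), (8, 9)]

/-- The letters of the subdiagram of type E₇. -/
def wordE7 : List ℕ := [0, 1, 2, 3, 4, 5, 8]

theorem rel_tables : ∀ x : Fin 10, ∀ y : Fin 10, (x : ℕ) < y →
    Fi23Cert.relWords.contains
      (if adjB edgesY x y then [(x : ℕ), y, x, y, x, y] else [(x : ℕ), y, x, y]) = true := by
  decide +kernel

theorem e7_contains : Fi23Cert.relWords.contains (wpow wordE7 9) = true := by decide +kernel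

theorem adjB_symm (x y : ℕ) : adjB edgesY x y = adjB edgesY y x := Bool.or_comm _ _

theorem ev_sq {x : ℕ} (hx : x < 10) : ev x * ev x = 1 := by
  have h := Fi23Cosets.ev_inv x hx
  have e : ∀ y : Fin 10, Fi23Cert.alphabet.invl y = y := by decide +kernel
  rwa [e ⟨x, hx⟩] at h

theorem ev_rel {x y : ℕ} (hy : y < 10) (hlt : x < y) :
    evW ev (if adjB edgesY x y then [x, y, x, y, x, y] else [x, y, x, y]) = 1 :=
  rels_hold _ (List.contains_iff_mem.1 (rel_tables ⟨x, hlt.trans hy⟩ ⟨y, hy⟩ hlt))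

theorem ev_comm {x y : ℕ} (hx : x < 10) (hy : y < 10) (hne : x ≠ y)
    (ha : adjB edgesY x y = false) : ev x * ev y = ev y * ev x := by
  have key : ∀ a b : ℕ, a < 10 → b < 10 → a < b → adjB edgesY a b = false →
      ev a * ev b = ev b * ev a := fun a b ha' hb' hlt h => by
    have h1 := ev_rel hb' hlt
    rw [h] at h1
    simp only [Bool.false_eq_true, if_false, evW_cons, evW_nil, mul_one] at h1
    rw [← mul_assoc] at h1
    rw [eq_inv_of_mul_eq_one_left h1, mul_inv_rev, inv_eq_of_mul_eq_one_right (ev_sq ha'),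
      inv_eq_of_mul_eq_one_right (ev_sq hb')]
  rcases Nat.lt_or_gt_of_ne hne with h | h
  · exact key x y hx hy h ha
  · exact (key y x hy hx h (adjB_symm x y ▸ ha)).symm

theorem ev_braid {x y : ℕ} (hx : x < 10) (hy : y < 10) (ha : adjB edgesY x y = true) :
    ev x * ev y * ev x = ev y * ev x * ev y := by
  have key : ∀ a b : ℕ, a < 10 → b < 10 → a < b → adjB edgesY a b = true →
      ev a * ev b * ev a = ev b * ev a * ev b := fun a b ha' hb' hlt h => by
    have h1 := ev_rel hb' hlt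
    rw [h] at h1
    simp only [if_true, evW_cons, evW_nil, mul_one] at h1
    have h2 : (ev a * ev b * ev a) * (ev b * ev a * ev b) = 1 := by simpa [mul_assoc] using h1
    rw [eq_inv_of_mul_eq_one_left h2, mul_inv_rev, mul_inv_rev,
      inv_eq_of_mul_eq_one_right (ev_sq ha'), inv_eq_of_mul_eq_one_right (ev_sq hb'), mul_assoc]
  have hne : x ≠ y := by
    rintro rfl
    have e : ∀ a : Fin 10, adjB edgesY a a = false := by decide
    exact absurd (e ⟨x, hx⟩) (by simp [ha])
  rcases Nat.lt_or_gt_of_ne hne with h | h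
  · exact key x y hx hy h ha
  · exact (key y x hy hx h (adjB_symm x y ▸ ha)).symm

theorem cancel_ok : runW edgesY (wordE7.reverse ++ wordE7) [20, 17, 14, 11, 8, 5, 2] = some [] := by decide +kernel

theorem rev_ok : sameW edgesY (wordE7.reverse ++ [0, 1, 0, 2, 1, 0, 3, 2, 1, 0, 8, 4, 3, 2, 1, 0]) [20, 17, 12, 17, 9, 12, 15, 20, 0, 3, 6, 9, 12, 15, 18, 21, 26, 3, 6, 9,
    12, 15, 18, 23] ([0, 1, 0, 2, 1, 0, 3, 2, 1, 0, 8, 4, 3, 2, 1, 0] ++ wordE7) [47, 44, 41, 38, 35, 30, 35, 27, 24, 21, 18, 15, 12, 9, 6, 3, 0] = true := by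
  decide +kernel

universe u

variable {Γ : Type u} [Group Γ] {σ : Γ →* Cfsg.Spor.Fi23} (hsur : Function.Surjective σ)
  (hc : σ.ker ≤ Subgroup.center Γ)

include hc

theorem cen {z : Γ} (hz : σ z = 1) (g : Γ) : Commute z g := CfsgLib.Schur.ker_commute hc hz g

include hsur

theorem step_lift {x y : ℕ} (hx : x < 10) (hy : y < 10) (ha : adjB edgesY x y = true) {tx : Γ}
    (htx : σ tx = ev x) :
    ∃ ty, σ ty = ev y ∧ tx * ty * tx = ty * tx * ty ∧ ty * ty = tx * tx := by
  obtain ⟨ty', hty'⟩ := hsur (ev y)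
  set u := tx * ty'
  have hσu : σ (u * tx * u⁻¹) = ev y := by
    simp only [u, map_mul, map_inv, htx, hty']
    rw [ev_braid hx hy ha, mul_assoc (ev y) (ev x) (ev y), mul_inv_cancel_right]
  refine ⟨u * tx * u⁻¹, hσu, ?_, ?_⟩
  · have hz : σ (ty'⁻¹ * (u * tx * u⁻¹)) = 1 := by rw [map_mul, map_inv, hty', hσu, inv_mul_cancel]
    set z := ty'⁻¹ * (u * tx * u⁻¹)
    have hzc := fun g => cen hc hz g
    have e : u * tx * u⁻¹ = ty' * z := (mul_inv_cancel_left _ _).symm
    calc tx * (u * tx * u⁻¹) * tx = u * (z * tx) := by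
          rw [e]; simp only [u, mul_assoc]
      _ = u * tx * z := by rw [(hzc tx).eq, ← mul_assoc]
      _ = (u * tx * u⁻¹) * u * z := by group
      _ = (u * tx * u⁻¹) * tx * (u * tx * u⁻¹) := by
          conv_rhs => arg 2; rw [e]
          simp only [u, mul_assoc]
  · have hsq : σ (tx * tx) = 1 := by rw [map_mul, htx, ev_sq hx]
    calc u * tx * u⁻¹ * (u * tx * u⁻¹) = u * (tx * tx) * u⁻¹ := by group
      _ = tx * tx := by rw [← (cen hc hsq u).eq, mul_inv_cancel_right]

/-- Lifts with common square satisfying the braid relations. -/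
theorem exists_braid_lifts : ∃ (S : ℕ → Γ) (c : Γ), (∀ x < 10, σ (S x) = ev x) ∧ σ c = 1 ∧
    (∀ x < 10, S x * S x = c) ∧
    ∀ x < 10, ∀ y < 10, adjB edgesY x y = true → S x * S y * S x = S y * S x * S y := by
  obtain ⟨t0, h0⟩ := hsur (ev 0)
  obtain ⟨t1, h1, b01, q1⟩ := step_lift hsur hc (x := 0) (y := 1) (by decide) (by decide) (by decide) h0
  obtain ⟨t2, h2, b12, q2⟩ := step_lift hsur hc (x := 1) (y := 2) (by decide) (by decide) (by decide) h1
  obtain ⟨t3, h3, b23, q3⟩ := step_lift hsur hc (x := 2) (y := 3) (by decide) (by decide) (by decide) h2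
  obtain ⟨t4, h4, b34, q4⟩ := step_lift hsur hc (x := 3) (y := 4) (by decide) (by decide) (by decide) h3
  obtain ⟨t5, h5, b45, q5⟩ := step_lift hsur hc (x := 4) (y := 5) (by decide) (by decide) (by decide) h4
  obtain ⟨t6, h6, b56, q6⟩ := step_lift hsur hc (x := 5) (y := 6) (by decide) (by decide) (by decide) h5
  obtain ⟨t7, h7, b67, q7⟩ := step_lift hsur hc (x := 6) (y := 7) (by decide) (by decide) (by decide) h6
  obtain ⟨t8, h8, b38, q8⟩ := step_lift hsur hc (x := 3) (y := 8) (by decide) (by decide) (by decide) h3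
  obtain ⟨t9, h9, b89, q9⟩ := step_lift hsur hc (x := 8) (y := 9) (by decide) (by decide) (by decide) h8
  refine ⟨fun x => [t0, t1, t2, t3, t4, t5, t6, t7, t8, t9].getD x 1, t0 * t0, ?_,
    by rw [map_mul, h0, ev_sq (by decide)], ?_, ?_⟩
  · intro x hx; interval_cases x <;> simpa
  · intro x hx; interval_cases x <;> simp_all
  · intro x hx y hy ha
    have hm : (x, y) ∈ edgesY ∨ (y, x) ∈ edgesY := by simpa [adjB] using ha
    simp only [edgesY, List.mem_cons, List.not_mem_nil, or_false, Prod.mk.injEq] at hm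
    rcases hm with h | h <;>
      (rcases h with ⟨rfl, rfl⟩ | ⟨rfl, rfl⟩ | ⟨rfl, rfl⟩ | ⟨rfl, rfl⟩ | ⟨rfl, rfl⟩ | ⟨rfl, rfl⟩ |
        ⟨rfl, rfl⟩ | ⟨rfl, rfl⟩ | ⟨rfl, rfl⟩ <;>
      first | assumption | exact Eq.symm (by assumption))

section comm

variable {S : ℕ → Γ} {c : Γ} (hσ : ∀ x < 10, σ (S x) = ev x)
  (hsq : ∀ x < 10, S x * S x = c)
  (hbr : ∀ x < 10, ∀ y < 10, adjB edgesY x y = true → S x * S y * S x = S y * S x * S y)

include hσ hbr

omit hsur in
/-- The commutator of two lifts moves along an edge. -/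
theorem comm_move {x y z : ℕ} (hx : x < 10) (hy : y < 10) (hz : z < 10)
    (hxy : adjB edgesY x y = true) (hxz : x ≠ z ∧ adjB edgesY x z = false)
    (hyz : y ≠ z ∧ adjB edgesY y z = false) : ⁅S y, S z⁆ = ⁅S x, S z⁆ := by
  set u := S x * S y
  have e1 : S y = u * S x * u⁻¹ := by
    rw [eq_mul_inv_iff_mul_eq, ← mul_assoc]
    exact (hbr x hx y hy hxy).symm
  have e2 : σ (S z) = σ (u * S z * u⁻¹) := by
    simp only [u, map_mul, map_inv, hσ x hx, hσ y hy, hσ z hz]
    rw [eq_mul_inv_iff_mul_eq, ← mul_assoc, ← ev_comm hx hz hxz.1 hxz.2, mul_assoc,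
      ← ev_comm hy hz hyz.1 hyz.2, ← mul_assoc]
  have hk : σ ⁅S x, S z⁆ = 1 := by
    rw [map_commutatorElement, hσ x hx, hσ z hz]
    exact commutatorElement_eq_one_iff_mul_comm.2 (ev_comm hx hz hxz.1 hxz.2)
  rw [e1, CfsgLib.Schur.commutator_congr hc (rfl : σ (u * S x * u⁻¹) = _) e2,
    show ⁅u * S x * u⁻¹, u * S z * u⁻¹⁆ = u * ⁅S x, S z⁆ * u⁻¹ by
      simp only [commutatorElement_def]; group,
    ← (cen hc hk u).eq, mul_inv_cancel_right]

end comm

omit hsur hc in
/-- An element that changes by a central factor when passing each letter. -/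
theorem pass_word {S : ℕ → Γ} {j : Γ} {ε : Γ} (hε : ∀ g, Commute ε g) :
    ∀ {l : List ℕ}, (∀ x ∈ l, S x * j = j * S x * ε) → evW S l * j = j * evW S l * ε ^ l.length
  | [], _ => by simp
  | x :: l, h => by
    rw [evW_cons, mul_assoc, pass_word hε fun y hy => h y (List.mem_cons_of_mem _ hy),
      ← mul_assoc (S x), ← mul_assoc (S x), h x List.mem_cons_self, List.length_cons, pow_succ']
    rw [mul_assoc (j * S x) ε, (hε (evW S l)).eq]
    simp only [mul_assoc]

/-- Lifts which are involutions, satisfy the Coxeter relations and the relation of type E₇. -/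
theorem exists_good_lifts : ∃ S : ℕ → Γ, (∀ x < 10, σ (S x) = ev x) ∧ Holds edgesY S 1 ∧
    evW S wordE7 ^ 9 = 1 := by
  obtain ⟨S, c, hσ, hσc, hsq, hbr⟩ := exists_braid_lifts hsur hc
  have hcc : ∀ g, Commute c g := fun g => cen hc hσc g
  have mv : ∀ x y z : ℕ, x < 10 → y < 10 → z < 10 → adjB edgesY x y = true →
      (x ≠ z ∧ adjB edgesY x z = false) → (y ≠ z ∧ adjB edgesY y z = false) →
      ⁅S y, S z⁆ = ⁅S x, S z⁆ := fun x y z hx hy hz => comm_move hc hσ hbr hx hy hz
  set ε := ⁅S 0, S 7⁆ with hεdef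
  have hσε : σ ε = 1 := by
    rw [hεdef, map_commutatorElement, hσ 0 (by decide), hσ 7 (by decide)]
    exact commutatorElement_eq_one_iff_mul_comm.2 (ev_comm (by decide) (by decide) (by decide) (by decide))
  have hεc : ∀ g, Commute ε g := fun g => cen hc hσε g
  have e1 : ⁅S 1, S 7⁆ = ε := mv 0 1 7 (by decide) (by decide) (by decide) (by decide) (by decide) (by decide)
  have e2 : ⁅S 2, S 7⁆ = ε := (mv 1 2 7 (by decide) (by decide) (by decide) (by decide) (by decide) (by decide)).trans e1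
  have e3 : ⁅S 3, S 7⁆ = ε := (mv 2 3 7 (by decide) (by decide) (by decide) (by decide) (by decide) (by decide)).trans e2
  have e4 : ⁅S 4, S 7⁆ = ε := (mv 3 4 7 (by decide) (by decide) (by decide) (by decide) (by decide) (by decide)).trans e3
  have e5 : ⁅S 5, S 7⁆ = ε := (mv 4 5 7 (by decide) (by decide) (by decide) (by decide) (by decide) (by decide)).trans e4
  have e8 : ⁅S 8, S 7⁆ = ε := (mv 3 8 7 (by decide) (by decide) (by decide) (by decide) (by decide) (by decide)).trans e3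
  have hpass : ∀ x ∈ wpow wordE7 9, S x * S 7 = S 7 * S x * ε := by
    intro x hx
    have hk : ⁅S x, S 7⁆ = ε := by
      have hm : x ∈ wordE7 := by
        simp only [wpow, List.mem_flatten, List.mem_replicate] at hx
        obtain ⟨l, ⟨-, rfl⟩, hl⟩ := hx
        exact hl
      simp only [wordE7, List.mem_cons, List.not_mem_nil, or_false] at hm
      rcases hm with rfl | rfl | rfl | rfl | rfl | rfl | rfl
      exacts [rfl, e1, e2, e3, e4, e5, e8]
    rw [← (hεc (S 7 * S x)).eq, ← hk, commutatorElement_def]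
    group
  have hε2 : ε * ε = 1 := by
    have h1 : ⁅S 0 * S 0, S 7⁆ = 1 := commutatorElement_eq_one_iff_mul_comm.2 (by
      rw [hsq 0 (by decide)]; exact (hcc (S 7)).eq)
    rwa [show ⁅S 0 * S 0, S 7⁆ = S 0 * ⁅S 0, S 7⁆ * (S 0)⁻¹ * ⁅S 0, S 7⁆ by
      simp only [commutatorElement_def]; group, ← hεdef, ← (hεc (S 0)).eq, mul_inv_cancel_right] at h1
  set z2 := evW S (wpow wordE7 9) with hz2
  have hσz2 : σ z2 = 1 := by
    have h := rels_hold _ (List.contains_iff_mem.1 e7_contains)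
    rw [hz2]
    rw [evW, map_list_prod, List.map_map]
    rw [evW] at h
    rw [List.map_congr_left (f := ⇑σ ∘ S) (g := ev) fun x hx => hσ x ?_]
    · exact h
    · have e : ∀ y ∈ wpow wordE7 9, y < 10 := by decide
      exact e x hx
  have hz2c : ∀ g, Commute z2 g := fun g => cen hc hσz2 g
  have hε : ε = 1 := by
    have h := pass_word hεc hpass
    rw [← hz2, (hz2c (S 7)).eq] at h
    have h1 : ε ^ (wpow wordE7 9).length = 1 := (mul_eq_left.1 h.symm)
    rw [show (wpow wordE7 9).length = 2 * 31 + 1 by decide, pow_succ, pow_mul, sq, hε2, one_pow,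
      one_mul] at h1
    exact h1
  have cm : ∀ x y : ℕ, ⁅S x, S y⁆ = 1 → S x * S y = S y * S x := fun x y h =>
    commutatorElement_eq_one_iff_mul_comm.1 h
  have sy : ∀ x y : ℕ, ⁅S x, S y⁆ = 1 → ⁅S y, S x⁆ = 1 := fun x y h => by
    rw [← commutatorElement_inv, h, inv_one]
  have k0_7 : ⁅S 0, S 7⁆ = 1 := hε
  have k1_7 : ⁅S 1, S 7⁆ = 1 := (e1.trans hε)
  have k2_7 : ⁅S 2, S 7⁆ = 1 := (e2.trans hε)
  have k3_7 : ⁅S 3, S 7⁆ = 1 := (e3.trans hε)
  have k4_7 : ⁅S 4, S 7⁆ = 1 := (e4.trans hε)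
  have k5_7 : ⁅S 5, S 7⁆ = 1 := (e5.trans hε)
  have k8_7 : ⁅S 8, S 7⁆ = 1 := (e8.trans hε)
  have k6_0 : ⁅S 6, S 0⁆ = 1 := (mv 7 6 0 (by decide) (by decide) (by decide)
    (by decide) (by decide) (by decide)).trans (sy _ _ k0_7)
  have k6_1 : ⁅S 6, S 1⁆ = 1 := (mv 7 6 1 (by decide) (by decide) (by decide)
    (by decide) (by decide) (by decide)).trans (sy _ _ k1_7)
  have k6_2 : ⁅S 6, S 2⁆ = 1 := (mv 7 6 2 (by decide) (by decide) (by decide)
    (by decide) (by decide) (by decide)).trans (sy _ _ k2_7)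
  have k6_3 : ⁅S 6, S 3⁆ = 1 := (mv 7 6 3 (by decide) (by decide) (by decide)
    (by decide) (by decide) (by decide)).trans (sy _ _ k3_7)
  have k6_4 : ⁅S 6, S 4⁆ = 1 := (mv 7 6 4 (by decide) (by decide) (by decide)
    (by decide) (by decide) (by decide)).trans (sy _ _ k4_7)
  have k6_8 : ⁅S 6, S 8⁆ = 1 := (mv 7 6 8 (by decide) (by decide) (by decide)
    (by decide) (by decide) (by decide)).trans (sy _ _ k8_7)
  have k9_6 : ⁅S 9, S 6⁆ = 1 := (mv 8 9 6 (by decide) (by decide) (by decide)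
    (by decide) (by decide) (by decide)).trans (sy _ _ k6_8)
  have k9_7 : ⁅S 9, S 7⁆ = 1 := (mv 8 9 7 (by decide) (by decide) (by decide)
    (by decide) (by decide) (by decide)).trans k8_7
  have k5_0 : ⁅S 5, S 0⁆ = 1 := (mv 6 5 0 (by decide) (by decide) (by decide)
    (by decide) (by decide) (by decide)).trans k6_0
  have k5_1 : ⁅S 5, S 1⁆ = 1 := (mv 6 5 1 (by decide) (by decide) (by decide)
    (by decide) (by decide) (by decide)).trans k6_1
  have k5_2 : ⁅S 5, S 2⁆ = 1 := (mv 6 5 2 (by decide) (by decide) (by decide)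
    (by decide) (by decide) (by decide)).trans k6_2
  have k5_3 : ⁅S 5, S 3⁆ = 1 := (mv 6 5 3 (by decide) (by decide) (by decide)
    (by decide) (by decide) (by decide)).trans k6_3
  have k5_8 : ⁅S 5, S 8⁆ = 1 := (mv 6 5 8 (by decide) (by decide) (by decide)
    (by decide) (by decide) (by decide)).trans k6_8
  have k5_9 : ⁅S 5, S 9⁆ = 1 := (mv 6 5 9 (by decide) (by decide) (by decide)
    (by decide) (by decide) (by decide)).trans (sy _ _ k9_6)
  have k4_0 : ⁅S 4, S 0⁆ = 1 := (mv 5 4 0 (by decide) (by decide) (by decide)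
    (by decide) (by decide) (by decide)).trans k5_0
  have k4_1 : ⁅S 4, S 1⁆ = 1 := (mv 5 4 1 (by decide) (by decide) (by decide)
    (by decide) (by decide) (by decide)).trans k5_1
  have k4_2 : ⁅S 4, S 2⁆ = 1 := (mv 5 4 2 (by decide) (by decide) (by decide)
    (by decide) (by decide) (by decide)).trans k5_2
  have k4_8 : ⁅S 4, S 8⁆ = 1 := (mv 5 4 8 (by decide) (by decide) (by decide)
    (by decide) (by decide) (by decide)).trans k5_8
  have k4_9 : ⁅S 4, S 9⁆ = 1 := (mv 5 4 9 (by decide) (by decide) (by decide)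
    (by decide) (by decide) (by decide)).trans k5_9
  have k3_0 : ⁅S 3, S 0⁆ = 1 := (mv 4 3 0 (by decide) (by decide) (by decide)
    (by decide) (by decide) (by decide)).trans k4_0
  have k3_1 : ⁅S 3, S 1⁆ = 1 := (mv 4 3 1 (by decide) (by decide) (by decide)
    (by decide) (by decide) (by decide)).trans k4_1
  have k3_9 : ⁅S 3, S 9⁆ = 1 := (mv 4 3 9 (by decide) (by decide) (by decide)
    (by decide) (by decide) (by decide)).trans k4_9
  have k8_0 : ⁅S 8, S 0⁆ = 1 := (mv 3 8 0 (by decide) (by decide) (by decide)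
    (by decide) (by decide) (by decide)).trans k3_0
  have k8_1 : ⁅S 8, S 1⁆ = 1 := (mv 3 8 1 (by decide) (by decide) (by decide)
    (by decide) (by decide) (by decide)).trans k3_1
  have k9_0 : ⁅S 9, S 0⁆ = 1 := (mv 8 9 0 (by decide) (by decide) (by decide)
    (by decide) (by decide) (by decide)).trans k8_0
  have k9_1 : ⁅S 9, S 1⁆ = 1 := (mv 8 9 1 (by decide) (by decide) (by decide)
    (by decide) (by decide) (by decide)).trans k8_1
  have k2_0 : ⁅S 2, S 0⁆ = 1 := (mv 3 2 0 (by decide) (by decide) (by decide)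
    (by decide) (by decide) (by decide)).trans k3_0
  have k2_8 : ⁅S 2, S 8⁆ = 1 := (mv 1 2 8 (by decide) (by decide) (by decide)
    (by decide) (by decide) (by decide)).trans (sy _ _ k8_1)
  have k2_9 : ⁅S 2, S 9⁆ = 1 := (mv 1 2 9 (by decide) (by decide) (by decide)
    (by decide) (by decide) (by decide)).trans (sy _ _ k9_1)
  have hcomm : ∀ x < 10, ∀ y < 10, x ≠ y → adjB edgesY x y = false → S x * S y = S y * S x := by
    intro x hx y hy hne ha
    refine cm x y ?_
    interval_cases x <;> interval_cases y <;>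
      first | (exact absurd rfl hne) | (exact absurd ha (by decide)) | assumption | (apply sy; assumption)
  have H : Holds edgesY S c := ⟨hsq, hcc, hcomm, hbr⟩
  set P := evW S wordE7
  set Pr := evW S wordE7.reverse
  have hpp : Pr * P = c ^ 7 := by
    obtain ⟨k, hk, e⟩ := H.run_sound _ cancel_ok
    rw [evW_append, evW_nil, mul_one] at e
    rw [e]
    congr 1
    simp [wordE7] at hk
    omega
  have hP9 : P ^ 9 = z2 := (evW_wpow S wordE7 9).symm
  have hPr9 : Pr ^ 9 = z2 := by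
    have e := H.eq_of_sameW rev_ok (by simp [wordE7])
    rw [evW_append, evW_append] at e
    rw [show Pr = _ from eq_mul_inv_iff_mul_eq.2 e, conj_pow, hP9, ← (hz2c _).eq, mul_inv_cancel_right]
  have hzz : z2 * z2 = c ^ 63 := by
    have e : Pr = c ^ 7 * P⁻¹ := eq_mul_inv_iff_mul_eq.2 hpp
    rw [e, ((hcc _).pow_left 7).mul_pow, inv_pow, hP9, ← pow_mul] at hPr9
    exact (mul_inv_eq_iff_eq_mul.1 hPr9).symm
  set ζ := z2⁻¹ * c ^ 31 with hζ
  have hζc : ∀ g, Commute ζ g := fun g => (hz2c g).inv_left.mul_left ((hcc g).pow_left 31)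
  have hσζ : σ ζ = 1 := by rw [hζ, map_mul, map_inv, hσz2, map_pow, hσc, one_pow, inv_one, one_mul]
  have hsq' : ζ * ζ * c = 1 := by
    rw [hζ, mul_assoc _ (c ^ 31), ← mul_assoc (c ^ 31) z2⁻¹, (((hcc z2⁻¹).pow_left 31)).eq]
    rw [show z2⁻¹ * (z2⁻¹ * c ^ 31 * c ^ 31) * c = (z2 * z2)⁻¹ * (c ^ 31 * c ^ 31 * c) by group,
      hzz, ← pow_add, ← pow_succ, inv_mul_cancel]
  refine ⟨fun x => S x * ζ, fun x hx => by rw [map_mul, hσ x hx, hσζ, mul_one],
    ⟨fun x hx => ?_, fun g => Commute.one_left g, fun x hx y hy hne ha => ?_,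
      fun x hx y hy ha => ?_⟩, ?_⟩
  · rw [(hζc (S x)).mul_mul_mul_comm, hsq x hx, (hcc (ζ * ζ)).eq, hsq']
  · rw [(hζc (S y)).mul_mul_mul_comm, (hζc (S x)).mul_mul_mul_comm, hcomm x hx y hy hne ha]
  · rw [(hζc (S y)).mul_mul_mul_comm, (hζc (S x)).mul_mul_mul_comm (a := S x * S y) |> fun _ =>
      (((hζc (S x)).mul_left (hζc (S x)))).mul_mul_mul_comm, hbr x hx y hy ha,
      (hζc (S x)).mul_mul_mul_comm, ((hζc (S y)).mul_left (hζc (S y))).mul_mul_mul_comm]
  · have key : ∀ l : List ℕ, evW (fun x => S x * ζ) l = evW S l * ζ ^ l.length := by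
      intro l
      induction l with
      | nil => simp
      | cons a l ih =>
        rw [evW_cons, evW_cons, ih, (hζc (evW S l)).mul_mul_mul_comm, List.length_cons, pow_succ']
    rw [key, ((hζc P).pow_left _).symm.mul_pow, ← pow_mul, hP9,
      show wordE7.length * 9 = 2 * 31 + 1 from rfl, pow_succ, pow_mul, sq,
      eq_inv_of_mul_eq_one_left hsq', inv_pow, hζ, ← mul_assoc ((c ^ 31)⁻¹), ← mul_assoc z2,
      (((hcc z2⁻¹).pow_left 31).inv_left).eq]
    group

end CfsgLib.Fi23Mult
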