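import Cfsg.Agent.Lib.Presented.Fi23Mult.Spider
import Cfsg.Agent.Lib.Schur.Basic

/-!
# The Schur multiplier of Fi₂₃ is trivial

The good lifts of the Coxeter generators define a section of any stem extension.
-/

set_option autoImplicit false
set_option maxRecDepth 8000

namespace CfsgLib.Fi23Mult

open CfsgLib.Presented
open CfsgLib.Presented.Fi23Cosets (ev letters letters_valid nodes_valid full idxOf relWords_eq)
open scoped commutatorElement

/-- Every relator word is one of the known ones. -/
theorem relWords_shape : (Fi23Cert.relWords.all fun w =>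
    w == wpow spider 10 || w == wpow wordE7 9 || (List.range 10).any fun x => (List.range 10).any fun y =>
      !(x == y) && w == (if adjB edgesY x y then [x, y, x, y, x, y] else [x, y, x, y])) = true := by
  decide +kernel

universe u

variable {Γ : Type u} [Group Γ] {σ : Γ →* Cfsg.Spor.Fi23}

theorem relWord_one {S : ℕ → Γ} (H : Holds edgesY S 1) (h7 : evW S wordE7 ^ 9 = 1)
    (hs : evW S spider ^ 10 = 1) {w : List ℕ} (hw : w ∈ Fi23Cert.relWords) : evW S w = 1 := by
  have h := List.all_eq_true.1 relWords_shape w hw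
  simp only [Bool.or_eq_true, List.any_eq_true, Bool.and_eq_true, beq_iff_eq, List.mem_range,
    Bool.not_eq_true', beq_eq_false_iff_ne] at h
  rcases h with (rfl | rfl) | ⟨x, hx, y, hy, hne, rfl⟩
  · rw [evW_wpow, hs]
  · rw [evW_wpow, h7]
  · split
    · next ha =>
      calc evW S [x, y, x, y, x, y] = S x * S y * S x * (S y * S x * S y) := by simp [mul_assoc]
        _ = S x * S y * S x * (S x * S y * S x) := by rw [H.braid x hx y hy ha]
        _ = S x * S y * (S x * S x) * S y * S x := by simp only [mul_assoc]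
        _ = 1 := by rw [H.sq x hx, mul_one, mul_assoc (S x) (S y), H.sq y hy, mul_one, H.sq x hx]
    · next ha =>
      calc evW S [x, y, x, y] = S x * S y * (S x * S y) := by simp [mul_assoc]
        _ = S x * S y * (S y * S x) := by rw [H.comm x hx y hy hne (Bool.eq_false_iff.2 ha)]
        _ = S x * (S y * S y) * S x := by simp only [mul_assoc]
        _ = 1 := by rw [H.sq y hy, mul_one, H.sq x hx]

theorem idx_lt (g : Cfsg.Spor.Fi23.Gen) : idxOf g < 10 := by cases g <;> decide

theorem ker_eq_bot (hσ : Cfsg.IsStemExtension σ) : σ.ker = ⊥ := by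
  obtain ⟨hsur, hc, hk⟩ := hσ
  obtain ⟨S, hS, H, h7⟩ := exists_good_lifts hsur hc
  have hs := spider_one hc hS H
  let f : Cfsg.Spor.Fi23.Gen → Γ := fun g => S (idxOf g)
  have hf : ∀ g ∈ letters.nodes, f g * f g = 1 := fun g _ => H.sq _ (idx_lt g)
  have hidx : ∀ y : Fin 10, idxOf (Fi23Cosets.genOf y).1 = y ∧ (Fi23Cosets.genOf y).2 = true := by
    decide +kernel
  have hev : ∀ x < 10, letters.ev f x = S x := fun x hx => by
    obtain ⟨h1, h2⟩ := hidx ⟨x, hx⟩
    show (if x < 10 then cond (Fi23Cosets.genOf x).2 (f (Fi23Cosets.genOf x).1)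
      (f (Fi23Cosets.genOf x).1)⁻¹ else 1) = _
    rw [if_pos hx, h2, cond_true]
    exact congrArg S h1
  have hone : ∀ w ∈ Fi23Cert.relWords, evW (letters.ev f) w = 1 := fun w hw => by
    have hl : ∀ x ∈ w, x < 10 := by
      have e : (Fi23Cert.relWords.all fun w => w.all fun x => Nat.blt x 10) = true := by decide +kernel
      intro x hx
      have := List.all_eq_true.1 (List.all_eq_true.1 e w hw) x hx
      rwa [Nat.blt_eq] at this
    rw [evW, List.map_congr_left fun x hx => hev x (hl x hx)]
    exact relWord_one H h7 hs hw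
  have hkills := Letters.kills (extra := Cfsg.Spor.Fi23.extra) letters_valid nodes_valid full hf
    (fun w hw => hone w (relWords_eq ▸ List.mem_append.2 (Or.inl hw)))
    (fun w hw => hone w (relWords_eq ▸ List.mem_append.2 (Or.inr hw)))
  let θ : Cfsg.Spor.Fi23 →* Γ := PresentedGroup.toGroup hkills
  have hθ : σ.comp θ = MonoidHom.id _ := by
    refine PresentedGroup.ext fun g => ?_
    show σ (PresentedGroup.toGroup hkills (PresentedGroup.of g)) = PresentedGroup.of g
    rw [PresentedGroup.toGroup.of]
    show σ (S (idxOf g)) = _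
    rw [hS _ (idx_lt g)]
    exact (Letters.ev_idx (L := letters) letters_valid (Letters.of_sq nodes_valid) (full g).1 (full g).2).1
  have hσθ : ∀ g, σ (θ g) = g := fun g => DFunLike.congr_fun hθ g
  have hrange : commutator Γ ≤ θ.range := by
    rw [commutator_def, Subgroup.commutator_le]
    intro x _ y _
    exact ⟨⁅σ x, σ y⁆, by
      rw [map_commutatorElement]
      exact CfsgLib.Schur.commutator_congr hc (hσθ _) (hσθ _)⟩
  rw [Subgroup.eq_bot_iff_forall]
  intro z hz
  obtain ⟨g, rfl⟩ := hrange (hk hz)
  rw [MonoidHom.mem_ker, hσθ] at hz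
  rw [hz, map_one]

/-- The multiplier of Fi₂₃ is trivial. -/
theorem fi23_multiplier : Cfsg.HasCyclicSchurMultiplier Cfsg.Spor.Fi23 1 := by
  have : Finite Cfsg.Spor.Fi23 := Nat.finite_of_card_ne_zero (by rw [Fi23Order.card_eq]; norm_num)
  refine CfsgLib.Schur.hasCyclicSchurMultiplier_one fun p _ Γ _ _ τ hτ z hz _ => ?_
  rw [ker_eq_bot hτ] at hz
  exact Subgroup.mem_bot.1 hz

end CfsgLib.Fi23Mult
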