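import Cfsg.Agent.Lib.Presented.Fi23Mult.Check
import Cfsg.Agent.Lib.Presented.Fi23Order

/-!
# The spider relation holds for involutive lifts of the generators of Fi₂₃

Its value is central and its cube is one by a relation in the affine Coxeter group of type Ẽ₆.  Its square is
one because the translations lift linearly: six root elements of an elementary abelian group of order 3⁶,
with transpositions inverting them, determine the lifts.
-/

set_option autoImplicit false
set_option maxRecDepth 8000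

namespace CfsgLib.Fi23Mult

open CfsgLib.Presented
open CfsgLib.Presented.Fi23Cosets (ev phi phi_ev rep_valid rels_hold)
open scoped commutatorElement

theorem checked_one {w : List ℕ} (hw : w ∈ checkedWords) : evW ev w = 1 := by
  have h := checked_ok
  have hlt : ∀ x ∈ w, x < Fi23Cert.alphabet.eps := by
    intro x hx
    simp only [Rep.relsOK, List.all_eq_true, Bool.and_eq_true] at h
    have := (h w hw).1 x hx
    rwa [Nat.blt_eq] at this
  refine Fi23Order.phi_injective ?_
  rw [map_one, evW, map_list_prod, List.map_map,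
    List.map_congr_left (f := ⇑phi ∘ ev) (g := Fi23Cert.rep.perm rep_valid) fun x hx => phi_ev x (hlt x hx)]
  exact Rep.evW_eq_one rep_valid checked_ok hw

theorem words_small : (∀ d ∈ reflData ++ partData ++ [lastPart], d.2 < 10 ∧ ∀ x ∈ d.1, x < 10) ∧
    reflData.length = 6 ∧ partData.length = 6 ∧ (∀ i ∈ pathRefl, i < 6) := by decide +kernel

theorem spider_contains : Fi23Cert.relWords.contains (wpow spider 10) = true := by decide +kernel

theorem three_ok : sameW edgesY
    (wpow spider 10 ++ spiderConj.1 ++ wpow spider 10 ++ spiderConj.1.reverse ++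
      spiderConj.2 ++ wpow spider 10 ++ spiderConj.2.reverse) threeMoves [] [] = true := by
  decide +kernel

theorem trans_ok : sameW edgesY (wpow spider 10) spiderMoves
    (wpow (wW 0) 3 ++ wpow (wW 1) 3 ++ wW 2 ++ (wW 3).reverse ++ (wW 4).reverse ++ wpow tW.reverse 2)
    transMoves = true := by
  decide +kernel

universe u

variable {Γ : Type u} [Group Γ]

section algebra

theorem cube_inj {k : Γ} (h2 : k * k = 1) (h3 : k * k * k = 1) : k = 1 := by
  rwa [h2, one_mul] at h3

/-- An element inverted by an involution commutes with any element moved along it. -/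
theorem commute_of_moved {s W b : Γ} {m : ℕ} (hs : s * s = 1) (hinv : s * W * s = W⁻¹)
    (hW : W * W * W = 1) (hk : ∀ g, Commute ⁅W, b⁆ g)
    (hd : ∀ g, Commute ((b * W ^ m)⁻¹ * (s * b * s)) g) : Commute W b := by
  set k := ⁅W, b⁆ with hkdef
  have e1 : W * b * W⁻¹ = k * b := by rw [hkdef, commutatorElement_def]; group
  have e3 : k * k * k = 1 := by
    have : W * (W * (W * b * W⁻¹) * W⁻¹) * W⁻¹ = k * k * k * b := by
      rw [e1, show W * (k * b) * W⁻¹ = (W * k) * b * W⁻¹ by group, ← (hk W).eq,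
        show k * W * b * W⁻¹ = k * (W * b * W⁻¹) by group, e1,
        show W * (k * (k * b)) * W⁻¹ = (W * (k * k)) * b * W⁻¹ by group,
        ← ((hk W).mul_left (hk W)).eq, show k * k * W * b * W⁻¹ = k * k * (W * b * W⁻¹) by group, e1]
      group
    rw [show W * (W * (W * b * W⁻¹) * W⁻¹) * W⁻¹ = (W * W * W) * b * (W * W * W)⁻¹ by group, hW,
      one_mul, inv_one, mul_one] at this
    exact right_eq_mul.1 this
  set z := (b * W ^ m)⁻¹ * (s * b * s)
  have hz : s * b * s = b * W ^ m * z := (mul_inv_cancel_left _ _).symm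
  have hs' : s⁻¹ = s := inv_eq_of_mul_eq_one_right hs
  have e2 : k = ⁅W⁻¹, b * W ^ m * z⁆ := by
    have : s * k * s⁻¹ = ⁅W⁻¹, b * W ^ m * z⁆ := by
      have cj : ∀ g : Γ, s * g * s = s * g * s⁻¹ := fun g => by rw [hs']
      rw [hkdef, ← hinv, ← hz, cj W, cj b]
      simp only [commutatorElement_def]
      group
    rwa [← (hk s).eq, mul_inv_cancel_right] at this
  have e4 : ⁅W⁻¹, b * W ^ m * z⁆ = W⁻¹ * b * W * b⁻¹ := by
    rw [commutatorElement_def, show W⁻¹ * (b * W ^ m * z) * W⁻¹⁻¹ * (b * W ^ m * z)⁻¹ =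
      W⁻¹ * b * (W ^ m * (z * W) * z⁻¹) * (W ^ m)⁻¹ * b⁻¹ by group, (hd W).eq, ← mul_assoc (W ^ m) W z, mul_inv_cancel_right,
      ← pow_succ, pow_succ', mul_assoc (W⁻¹ * b), mul_assoc W, mul_inv_cancel, mul_one]
  have e5 : k * k = 1 := by
    have h : b = k * (W⁻¹ * b * W) := by
      conv_lhs => rw [show b = W⁻¹ * (W * b * W⁻¹) * W by group, e1]
      rw [show W⁻¹ * (k * b) * W = W⁻¹ * k * b * W by group, ← (hk W⁻¹).eq]
      group
    nth_rewrite 2 [e2]
    rw [e4, show k * (W⁻¹ * b * W * b⁻¹) = k * (W⁻¹ * b * W) * b⁻¹ by group, ← h, mul_inv_cancel]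
  exact commutatorElement_eq_one_iff_mul_comm.1 (cube_inj e5 e3)

/-- The exact conjugate of an element of order three moved along an inverted element. -/
theorem conj_moved {s W b : Γ} {m : ℕ} (hs : s * s = 1) (hinv : s * W * s = W⁻¹)
    (hW : W * W * W = 1) (hb : b * b * b = 1) (hWb : Commute W b)
    (hd : ∀ g, Commute ((b * W ^ m)⁻¹ * (s * b * s)) g) : s * b * s = b * W ^ m := by
  set z := (b * W ^ m)⁻¹ * (s * b * s)
  have hz : s * b * s = b * W ^ m * z := (mul_inv_cancel_left _ _).symm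
  have hs' : s⁻¹ = s := inv_eq_of_mul_eq_one_right hs
  have hWm : s * W ^ m * s = (W ^ m)⁻¹ := by
    nth_rewrite 2 [← hs']
    rw [← conj_pow, hs', hinv, inv_pow]
  have e2 : z * z = 1 := by
    have h1 : b = (s * b * s) * (s * W ^ m * s) * (s * z * s) := by
      have h0 : b = s * (s * b * s) * s := by
        rw [show s * (s * b * s) * s = (s * s) * b * (s * s) by group, hs, one_mul, mul_one]
      refine (h0.trans (congrArg (fun t => s * t * s) hz)).trans ?_
      rw [show s * b * s * (s * W ^ m * s) * (s * z * s) =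
        s * b * (s * s) * W ^ m * (s * s) * z * s by group, hs]
      group
    rw [hz, hWm, show s * z * s = z * (s * s) by rw [← (hd s).eq, mul_assoc], hs, mul_one,
      show b * W ^ m * z * (W ^ m)⁻¹ * z = b * (W ^ m * z) * (W ^ m)⁻¹ * z by group,
      ← (hd (W ^ m)).eq, mul_assoc b, mul_inv_cancel_right, mul_assoc] at h1
    exact left_eq_mul.1 h1
  have e3 : z * z * z = 1 := by
    have h1 : (s * b * s) * (s * b * s) * (s * b * s) = 1 := by
      rw [show (s * b * s) * (s * b * s) * (s * b * s) = s * b * (s * s) * b * (s * s) * b * s by group,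
        hs, mul_one, mul_one, show s * b * b * b * s = s * (b * b * b) * s by group, hb, mul_one, hs]
    have hbw : Commute b (W ^ m) := (hWb.pow_left m).symm
    have hW3 : (W ^ m) ^ 3 = 1 := by
      rw [← pow_mul, mul_comm, pow_mul, show W ^ 3 = 1 by rw [pow_three, ← mul_assoc, hW], one_pow]
    have h2 : (s * b * s) ^ 3 = 1 := by rw [pow_three, ← mul_assoc]; exact h1
    rw [hz, (hd (b * W ^ m)).symm.mul_pow, hbw.mul_pow, hW3, pow_three b, ← mul_assoc, hb, one_mul,
      one_mul, pow_three, ← mul_assoc] at h2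
    exact h2
  rw [hz, cube_inj e2 e3, mul_one]

end algebra

/-- The product of powers along a list. -/
def piL (W : ℕ → Γ) (v : ℕ → ℕ) : ℕ → Γ
  | 0 => 1
  | n + 1 => piL W v n * W n ^ v n

theorem piL_commute {W : ℕ → Γ} {v : ℕ → ℕ} {g : Γ} :
    ∀ {n : ℕ}, (∀ i < n, Commute g (W i)) → Commute g (piL W v n)
  | 0, _ => Commute.one_right g
  | n + 1, h => (piL_commute fun i hi => h i (hi.trans n.lt_succ_self)).mul_right
      ((h n n.lt_succ_self).pow_right _)

theorem piL_mul {W : ℕ → Γ} {v w : ℕ → ℕ} :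
    ∀ {n : ℕ}, (∀ i < n, ∀ j < n, Commute (W i) (W j)) →
      piL W v n * piL W w n = piL W (fun i => v i + w i) n
  | 0, _ => by simp [piL]
  | n + 1, h => by
    rw [piL, piL, piL, Commute.mul_mul_mul_comm ((piL_commute fun i hi =>
      (h n n.lt_succ_self i (hi.trans n.lt_succ_self))).pow_left _), piL_mul fun i hi j hj =>
      h i (hi.trans n.lt_succ_self) j (hj.trans n.lt_succ_self), ← pow_add]

theorem piL_mod {W : ℕ → Γ} (hW : ∀ i, W i ^ 3 = 1) {v w : ℕ → ℕ} :
    ∀ {n : ℕ}, (∀ i < n, v i % 3 = w i % 3) → piL W v n = piL W w n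
  | 0, _ => rfl
  | n + 1, h => by
    rw [piL, piL, piL_mod hW fun i hi => h i (hi.trans n.lt_succ_self),
      pow_eq_pow_mod _ (hW n), h n n.lt_succ_self, ← pow_eq_pow_mod _ (hW n)]

theorem piL_single {W : ℕ → Γ} (k M : ℕ) :
    ∀ n, piL W (fun i => if i = k then M else 0) n = if k < n then W k ^ M else 1
  | 0 => by simp [piL]
  | n + 1 => by
    rw [piL, piL_single k M n]
    rcases Nat.lt_trichotomy k n with h | rfl | h
    · simp [h, Nat.ne_of_gt h, h.trans n.lt_succ_self]
    · simp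
    · simp [Nat.not_lt.2 h.le, Nat.ne_of_lt h, Nat.not_lt.2 (Nat.succ_le_of_lt h)]

/-- The coordinates after one transposition. -/
def updV (i : ℕ) (v : List ℕ) : List ℕ :=
  (List.range 6).map fun l => ((v.getD l 0) +
    (if l = i then ((List.range 6).map fun j => (actMat.getD i []).getD j 0 * v.getD j 0).sum else 0)) % 3

theorem path_result : (pathRefl.foldr updV [0, 0, 0, 1, 0, 0]) = lastVec := by decide +kernel

/-- The spider relation holds for involutive lifts satisfying the Coxeter relations. -/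
theorem spider_one {σ : Γ →* Cfsg.Spor.Fi23} (hc : σ.ker ≤ Subgroup.center Γ) {S : ℕ → Γ}
    (hσ : ∀ x < 10, σ (S x) = ev x) (H : Holds edgesY S 1) : evW S spider ^ 10 = 1 := by
  obtain ⟨hsmall, hlr, hlp, hpath⟩ := words_small
  have hzc : ∀ {z : Γ}, σ z = 1 → ∀ g, Commute z g := fun hz g => cen hc hz g
  -- words and their images
  have hσw : ∀ {w : List ℕ}, (∀ x ∈ w, x < 10) → σ (evW S w) = evW ev w := fun {w} hw => by
    rw [evW, map_list_prod, List.map_map, List.map_congr_left (f := ⇑σ ∘ S) (g := ev) fun x hx =>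
      hσ x (hw x hx)]
    rfl
  have hrev : ∀ {w : List ℕ}, (∀ x ∈ w, x < 10) → evW S w.reverse = (evW S w)⁻¹ := by
    intro w hw
    induction w with
    | nil => simp
    | cons a w ih =>
      rw [List.reverse_cons, evW_append, ih fun x hx => hw x (List.mem_cons_of_mem _ hx), evW_cons,
        evW_cons, evW_nil, mul_one, mul_inv_rev,
        inv_eq_of_mul_eq_one_right (H.sq a (hw a List.mem_cons_self))]
  have hpal : ∀ d : List ℕ × ℕ, d.2 < 10 → (∀ x ∈ d.1, x < 10) →
      (∀ x ∈ palW d, x < 10) ∧ evW S (palW d) * evW S (palW d) = 1 := by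
    intro d h2 h1
    refine ⟨fun x hx => ?_, ?_⟩
    · simp only [palW, List.mem_append, List.mem_singleton, List.mem_reverse] at hx
      rcases hx with (hx | rfl) | hx
      exacts [h1 x hx, h2, h1 x hx]
    · rw [palW, evW_append, evW_append, hrev h1, evW_cons, evW_nil, mul_one,
        show evW S d.1 * S d.2 * (evW S d.1)⁻¹ * (evW S d.1 * S d.2 * (evW S d.1)⁻¹) =
          evW S d.1 * (S d.2 * S d.2) * (evW S d.1)⁻¹ by group, H.sq d.2 h2, mul_one, mul_inv_cancel]
  have hrD : ∀ i < 6, reflData.getD i ([], 0) ∈ reflData ++ partData ++ [lastPart] := fun i hi => by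
    rw [List.getD_eq_getElem _ _ (hlr ▸ hi)]; simp
  have hpD : ∀ i < 6, partData.getD i ([], 0) ∈ reflData ++ partData ++ [lastPart] := fun i hi => by
    rw [List.getD_eq_getElem _ _ (hlp ▸ hi)]; simp
  have hlast := hsmall lastPart (by simp)
  set R : ℕ → Γ := fun i => evW S (rW i)
  set U : ℕ → Γ := fun i => evW S (wW i)
  set W : ℕ → Γ := fun i => if i < 6 then U i ^ 4 else 1
  have hR : ∀ i < 6, (∀ x ∈ rW i, x < 10) ∧ R i * R i = 1 := fun i hi =>
    hpal _ (hsmall _ (hrD i hi)).1 (hsmall _ (hrD i hi)).2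
  have hU : ∀ i < 6, (∀ x ∈ wW i, x < 10) ∧ R i * U i * R i = (U i)⁻¹ := by
    intro i hi
    obtain ⟨a1, a2⟩ := hR i hi
    obtain ⟨b1, b2⟩ := hpal _ (hsmall _ (hpD i hi)).1 (hsmall _ (hpD i hi)).2
    refine ⟨fun x hx => (List.mem_append.1 hx).elim (a1 x) (b1 x), ?_⟩
    show R i * evW S (wW i) * R i = (evW S (wW i))⁻¹
    rw [wW, evW_append, mul_inv_rev, inv_eq_of_mul_eq_one_right b2]
    show R i * (R i * evW S (palW _)) * R i = evW S (palW _) * (R i)⁻¹
    rw [← mul_assoc (R i) (R i), a2, one_mul, inv_eq_of_mul_eq_one_right a2]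
  have chk : ∀ {w : List ℕ}, w ∈ checkedWords → (∀ x ∈ w, x < 10) → σ (evW S w) = 1 := fun hm hw => by
    rw [hσw hw, checked_one hm]
  -- cubes
  have cube : ∀ {s w : Γ}, s * s = 1 → s * w * s = w⁻¹ → σ (w ^ 3) = 1 →
      w ^ 6 = 1 ∧ (w ^ 4) ^ 3 = 1 ∧ σ (w ^ 4) = σ w ∧ s * w ^ 4 * s = (w ^ 4)⁻¹ := by
    intro s w hs hinv hw3
    have hs' : s⁻¹ = s := inv_eq_of_mul_eq_one_right hs
    have hp : ∀ k : ℕ, s * w ^ k * s = (w ^ k)⁻¹ := fun k => by
      nth_rewrite 2 [← hs']
      rw [← conj_pow, hs', hinv, inv_pow]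
    have h3 : (w ^ 3)⁻¹ = w ^ 3 := by
      rw [← hp 3, ← (hzc hw3 s).eq, mul_assoc, hs, mul_one]
    have h6 : w ^ 6 = 1 := by
      rw [show (6 : ℕ) = 3 + 3 from rfl, pow_add]
      exact inv_eq_iff_mul_eq_one.1 h3
    refine ⟨h6, ?_, ?_, hp 4⟩
    · rw [← pow_mul, show 4 * 3 = 6 * 2 from rfl, pow_mul, h6, one_pow]
    · rw [show (4 : ℕ) = 1 + 3 from rfl, pow_add, map_mul, hw3, mul_one, pow_one]
  have hU3 : ∀ i < 6, σ (U i ^ 3) = 1 := fun i hi => by
    have hm : wpow (wW i) 3 ∈ checkedWords := by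
      simp only [checkedWords, List.mem_append, List.mem_map]
      exact Or.inl (Or.inl (Or.inl ⟨i, List.mem_range.2 hi, rfl⟩))
    rw [← evW_wpow]
    refine chk hm fun x hx => ?_
    simp only [wpow, List.mem_flatten, List.mem_replicate] at hx
    obtain ⟨l, ⟨-, rfl⟩, hl⟩ := hx
    exact (hU i hi).1 x hl
  have hW : ∀ i, W i ^ 3 = 1 := fun i => by
    by_cases hi : i < 6
    · simp only [W, if_pos hi]; exact (cube (hR i hi).2 (hU i hi).2 (hU3 i hi)).2.1
    · simp only [W, if_neg hi, one_pow]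
  have hWe : ∀ i < 6, W i = U i ^ 4 := fun i hi => if_pos hi
  have hσW : ∀ i < 6, σ (W i) = σ (U i) := fun i hi => by
    rw [hWe i hi]; exact (cube (hR i hi).2 (hU i hi).2 (hU3 i hi)).2.2.1
  have hWinv : ∀ i < 6, R i * W i * R i = (W i)⁻¹ := fun i hi => by
    rw [hWe i hi]; exact (cube (hR i hi).2 (hU i hi).2 (hU3 i hi)).2.2.2
  have hW3' : ∀ i, W i * W i * W i = 1 := fun i => by
    have := hW i; rwa [pow_three, ← mul_assoc] at this
  -- commutation and action
  set m : ℕ → ℕ → ℕ := fun i j => (actMat.getD i []).getD j 0 with hm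
  have hlet : ∀ {a b : List ℕ}, (∀ x ∈ a, x < 10) → (∀ x ∈ b, x < 10) → ∀ x ∈ a ++ b, x < 10 :=
    fun ha hb x hx => (List.mem_append.1 hx).elim (ha x) (hb x)
  have hletp : ∀ {a : List ℕ} (k : ℕ), (∀ x ∈ a, x < 10) → ∀ x ∈ wpow a k, x < 10 := by
    intro a k ha x hx
    simp only [wpow, List.mem_flatten, List.mem_replicate] at hx
    obtain ⟨l, ⟨-, rfl⟩, hl⟩ := hx
    exact ha x hl
  have hletr : ∀ {a : List ℕ}, (∀ x ∈ a, x < 10) → ∀ x ∈ a.reverse, x < 10 :=
    fun ha x hx => ha x (List.mem_reverse.1 hx)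
  have hkc : ∀ i < 6, ∀ j < 6, (i, j) ∈ commPairs → σ ⁅W i, W j⁆ = 1 := fun i hi j hj hp => by
    have hmem : wW i ++ wW j ++ (wW i).reverse ++ (wW j).reverse ∈ checkedWords := by
      simp only [checkedWords, List.mem_append, List.mem_map]
      exact Or.inl (Or.inr ⟨(i, j), hp, rfl⟩)
    have h := chk hmem (hlet (hlet (hlet (hU i hi).1 (hU j hj).1) (hletr (hU i hi).1))
      (hletr (hU j hj).1))
    rw [evW_append, evW_append, evW_append, hrev (hU i hi).1, hrev (hU j hj).1] at h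
    rw [map_commutatorElement, hσW i hi, hσW j hj, ← map_commutatorElement]
    exact h
  have hdc : ∀ i < 6, ∀ j < 6, (i, j) ∈ actPairs →
      σ ((W j * W i ^ m i j)⁻¹ * (R i * W j * R i)) = 1 := fun i hi j hj hp => by
    have hmem : rW i ++ wW j ++ rW i ++ (wW j ++ wpow (wW i) (m i j)).reverse ∈ checkedWords := by
      simp only [checkedWords, List.mem_append, List.mem_map]
      exact Or.inr ⟨(i, j), hp, rfl⟩
    have hl2 := hlet (hU j hj).1 (hletp (m i j) (hU i hi).1)
    have h := chk hmem (hlet (hlet (hlet (hR i hi).1 (hU j hj).1) (hR i hi).1) (hletr hl2))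
    rw [evW_append, evW_append, evW_append, hrev hl2, evW_append, evW_wpow, map_mul, map_inv,
      mul_inv_eq_one] at h
    rw [map_mul, map_inv, inv_mul_eq_one, map_mul, map_pow, hσW j hj, hσW i hi, map_mul, map_mul,
      hσW j hj, ← map_pow, ← map_mul, ← map_mul, ← map_mul]
    exact h.symm
  have hcomm : ∀ i < 6, ∀ j < 6, Commute (W i) (W j) := by
    have cover : ∀ i : Fin 6, ∀ j : Fin 6, (i : ℕ) = j ∨
        ((i : ℕ), (j : ℕ)) ∈ commPairs ∧ ((i : ℕ), (j : ℕ)) ∈ actPairs ∨
        ((j : ℕ), (i : ℕ)) ∈ commPairs ∧ ((j : ℕ), (i : ℕ)) ∈ actPairs := by decide +kernel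
    intro i hi j hj
    rcases cover ⟨i, hi⟩ ⟨j, hj⟩ with h | ⟨h1, h2⟩ | ⟨h1, h2⟩
    · obtain rfl : i = j := h
      exact Commute.refl _
    · exact commute_of_moved (hR i hi).2 (hWinv i hi) (hW3' i) (hzc (hkc i hi j hj h1)) (hzc (hdc i hi j hj h2))
    · exact (commute_of_moved (hR j hj).2 (hWinv j hj) (hW3' j) (hzc (hkc j hj i hi h1))
        (hzc (hdc j hj i hi h2))).symm
  have hact : ∀ i ∈ pathSet, ∀ j < 6, R i * W j * R i = W j * W i ^ m i j := fun i hp j hj => by
    have e : ∀ a ∈ pathSet, a < 6 := by decide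
    have hi := e i hp
    refine conj_moved (hR i hi).2 (hWinv i hi) (hW3' i) (hW3' j) (hcomm i hi j hj) (hzc (hdc i hi j hj ?_))
    exact List.mem_append.2 (Or.inl (List.mem_flatMap.2 ⟨i, hp, List.mem_map.2 ⟨j, List.mem_range.2 hj, rfl⟩⟩))
  -- linear extension
  have hps : ∀ a ∈ pathSet, a < 6 := by decide
  have hconj : ∀ i ∈ pathSet, ∀ (v : ℕ → ℕ) (n : ℕ), n ≤ 6 → R i * piL W v n * R i =
      piL W v n * W i ^ (((List.range n).map fun j => m i j * v j).sum) := by
    intro i hp v n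
    have hi := hps i hp
    induction n with
    | zero => intro _; simp [piL, (hR i hi).2]
    | succ n ih =>
      intro hn
      have hRi : (R i)⁻¹ = R i := inv_eq_of_mul_eq_one_right (hR i hi).2
      have e : R i * W n ^ v n * R i = W n ^ v n * W i ^ (m i n * v n) := by
        nth_rewrite 2 [← hRi]
        rw [← conj_pow, hRi, hact i hp n (by omega), ((hcomm n (by omega) i hi).pow_right _).mul_pow,
          ← pow_mul]
      calc R i * piL W v (n + 1) * R i
          = (R i * piL W v n * R i) * (R i * W n ^ v n * R i) := by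
            rw [piL, show (R i * piL W v n * R i) * (R i * W n ^ v n * R i) =
              R i * piL W v n * (R i * R i) * W n ^ v n * R i by group, (hR i hi).2]
            group
        _ = _ := by
            rw [ih (by omega), e, piL, ((hcomm i hi n (by omega)).pow_pow _ _).mul_mul_mul_comm,
              ← pow_add, List.range_succ, List.map_append, List.sum_append]
            simp
  have hupd : ∀ i ∈ pathSet, ∀ v : List ℕ, R i * piL W (fun l => v.getD l 0) 6 * R i =
      piL W (fun l => (updV i v).getD l 0) 6 := by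
    intro i hp v
    have hi := hps i hp
    rw [hconj i hp _ 6 le_rfl]
    set M := ((List.range 6).map fun j => m i j * v.getD j 0).sum with hM
    rw [show W i ^ M = piL W (fun l => if l = i then M else 0) 6 by rw [piL_single, if_pos hi],
      piL_mul fun a ha b hb => hcomm a ha b hb]
    refine piL_mod hW fun l hl => ?_
    show _ = (updV i v).getD l 0 % 3
    have hlen : l < (updV i v).length := by simpa [updV] using hl
    rw [List.getD_eq_getElem (updV i v) 0 hlen]
    simp only [updV, List.getElem_map, List.getElem_range, Nat.mod_mod]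
    rfl
  have hpathEl : ∀ (P : List ℕ), (∀ i ∈ P, i ∈ pathSet) → ∀ v : List ℕ,
      evW S (P.flatMap rW) * piL W (fun l => v.getD l 0) 6 * (evW S (P.flatMap rW))⁻¹ =
        piL W (fun l => (P.foldr updV v).getD l 0) 6 := by
    intro P hP v
    induction P with
    | nil => simp
    | cons i P ih =>
      have hp := hP i List.mem_cons_self
      have hi := hps i hp
      rw [List.foldr_cons, ← hupd i hp, List.flatMap_cons, evW_append, mul_inv_rev,
        ← ih fun j hj => hP j (List.mem_cons_of_mem _ hj),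
        inv_eq_of_mul_eq_one_right (hR i hi).2]
      show R i * _ * _ * (_ * R i) = _
      group
  -- the last root element
  set G := evW S (pathRefl.flatMap rW)
  set A := piL W (fun l => lastVec.getD l 0) 6 with hA
  have hAG : A = G * W 3 * G⁻¹ := by
    rw [hA, ← path_result, ← hpathEl pathRefl (by decide)]
    congr 2
    simp [piL]
  set T := evW S tW
  have hTl : ∀ x ∈ tW, x < 10 := hlet (by simp) (hpal _ hlast.1 hlast.2).1
  have hTinv : S 9 * T * S 9 = T⁻¹ := by
    obtain ⟨-, b2⟩ := hpal _ hlast.1 hlast.2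
    show S 9 * evW S ([9] ++ palW lastPart) * S 9 = (evW S ([9] ++ palW lastPart))⁻¹
    rw [evW_append, evW_cons, evW_nil, mul_one, ← mul_assoc, H.sq 9 (by decide), one_mul, mul_inv_rev,
      inv_eq_of_mul_eq_one_right b2, inv_eq_of_mul_eq_one_right (H.sq 9 (by decide))]
  have hT3 : σ (T ^ 3) = 1 := by
    rw [← evW_wpow]
    refine chk ?_ (hletp 3 hTl)
    simp [checkedWords]
  obtain ⟨hT6, hT12, hσT, hT4inv⟩ := cube (H.sq 9 (by decide)) hTinv hT3
  have hσvec : ∀ v : ℕ → ℕ, ∀ n ≤ 6,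
      σ (piL W v n) = σ (evW S ((List.range n).flatMap fun i => wpow (wW i) (v i))) := by
    intro v n
    induction n with
    | zero => intro _; simp [piL]
    | succ n ih =>
      intro hn
      rw [piL, map_mul, ih (by omega), List.range_succ, List.flatMap_append, evW_append, map_mul]
      simp [evW_wpow, map_pow, hσW n (by omega), U]
  have hσA : σ A = σ (T ^ 4) := by
    rw [hA, hσvec _ 6 le_rfl, hσT]
    have hvl : ∀ x ∈ vecW lastVec, x < 10 := fun x hx => by
      simp only [vecW, List.mem_flatMap] at hx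
      obtain ⟨i, hi, hx⟩ := hx
      exact hletp _ (hU i (List.mem_range.1 hi)).1 x hx
    have h : σ (evW S (vecW lastVec ++ tW.reverse)) = 1 :=
      chk (by simp [checkedWords]) (hlet hvl (hletr hTl))
    rw [evW_append, hrev hTl, map_mul, map_inv, mul_inv_eq_one] at h
    exact h
  set Pv := piL W (fun l => shiftVec.getD l 0) 6
  set X := Pv * (G * R 3 * G⁻¹) * Pv⁻¹
  have hXA : X * A * X⁻¹ = A⁻¹ := by
    have hc1 : Commute Pv A := (piL_commute fun i hi => (piL_commute fun j hj => hcomm i hi j hj).symm)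
    have hR3 : (R 3)⁻¹ = R 3 := inv_eq_of_mul_eq_one_right (hR 3 (by decide)).2
    have e1 : G * R 3 * G⁻¹ * A * (G * R 3 * G⁻¹)⁻¹ = A⁻¹ := by
      rw [hAG, show G * R 3 * G⁻¹ * (G * W 3 * G⁻¹) * (G * R 3 * G⁻¹)⁻¹ =
        G * (R 3 * W 3 * (R 3)⁻¹) * G⁻¹ by group, hR3, hWinv 3 (by decide)]
      group
    calc X * A * X⁻¹ = Pv * (G * R 3 * G⁻¹ * (Pv⁻¹ * A * Pv) * (G * R 3 * G⁻¹)⁻¹) * Pv⁻¹ := by
          simp only [X]; group
      _ = Pv * A⁻¹ * Pv⁻¹ := by rw [hc1.inv_left.eq, inv_mul_cancel_right, e1]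
      _ = A⁻¹ := by rw [hc1.inv_right.eq, mul_inv_cancel_right]
  have hσX : σ X = σ (S 9) := by
    have hsl : ∀ x ∈ vecW shiftVec, x < 10 := fun x hx => by
      simp only [vecW, List.mem_flatMap] at hx
      obtain ⟨i, hi, hx⟩ := hx
      exact hletp _ (hU i (List.mem_range.1 hi)).1 x hx
    have hgl : ∀ x ∈ pathRefl.flatMap rW, x < 10 := fun x hx => by
      simp only [List.mem_flatMap] at hx
      obtain ⟨i, hi, hx⟩ := hx
      exact (hR i (hpath i hi)).1 x hx
    have hll := hlet (hlet (hlet (hlet hsl hgl) (hR 3 (by decide)).1) (hletr hgl)) (hletr hsl)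
    have h : σ (evW S (reachW ++ [9])) = 1 := chk (by simp [checkedWords]) (hlet hll (by simp))
    rw [evW_append, reachW, evW_append, evW_append, evW_append, evW_append, hrev hgl, hrev hsl,
      evW_cons, evW_nil, mul_one, map_mul] at h
    have h9 : σ (S 9) * σ (S 9) = 1 := by rw [← map_mul, H.sq 9 (by decide), map_one]
    have hi : (σ (S 9))⁻¹ = σ (S 9) := inv_eq_of_mul_eq_one_right h9
    have e := (eq_inv_of_mul_eq_one_left h).trans hi
    rw [← e]
    simp only [X, map_mul, map_inv, hσvec _ 6 le_rfl, Pv]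
    simp only [mul_assoc]
    rfl
  have hA3 : A * A * A = 1 := by
    rw [hAG, show G * W 3 * G⁻¹ * (G * W 3 * G⁻¹) * (G * W 3 * G⁻¹) =
      G * (W 3 * W 3 * W 3) * G⁻¹ by group, hW3', mul_one, mul_inv_cancel]
  have hTA : T ^ 4 = A := by
    set k := A⁻¹ * T ^ 4 with hk
    have hkz := hzc (show σ k = 1 by rw [hk, map_mul, map_inv, hσA, inv_mul_cancel])
    have hs9 : S 9 * A * S 9 = A⁻¹ := by
      have hz := hzc (show σ (X⁻¹ * S 9) = 1 by rw [map_mul, map_inv, hσX, inv_mul_cancel])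
      have hS9 : (S 9)⁻¹ = S 9 := inv_eq_of_mul_eq_one_right (H.sq 9 (by decide))
      nth_rewrite 2 [← hS9]
      rw [show S 9 = X * (X⁻¹ * S 9) from (mul_inv_cancel_left _ _).symm,
        show X * (X⁻¹ * S 9) * A * (X * (X⁻¹ * S 9))⁻¹ =
          X * ((X⁻¹ * S 9) * A * (X⁻¹ * S 9)⁻¹) * X⁻¹ by group, (hz A).eq, mul_inv_cancel_right, hXA]
    have e0 : T ^ 4 = A * k := (mul_inv_cancel_left _ _).symm
    have k2 : k * k = 1 := by
      have h := hT4inv
      rw [e0, show S 9 * (A * k) * S 9 = S 9 * A * (k * S 9) by group, (hkz (S 9)).eq,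
        ← mul_assoc, hs9, mul_inv_rev, ← (hkz A⁻¹).eq] at h
      have h' := (mul_right_cancel h : k = k⁻¹)
      exact mul_eq_one_iff_eq_inv.2 h'
    have k3 : k * k * k = 1 := by
      have h := hT12
      rw [e0, (hkz A).symm.mul_pow, pow_three', pow_three', hA3, one_mul] at h
      exact h
    rw [e0, cube_inj k2 k3, mul_one]
  -- the value of the relation
  set Z := evW S spider ^ 10 with hZ
  have hZz := hzc (show σ Z = 1 by
    have h := rels_hold _ (List.contains_iff_mem.1 spider_contains)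
    rw [hZ, ← evW_wpow, hσw (hletp 10 (by decide))]
    exact h)
  have hZ3 : Z * Z * Z = 1 := by
    have e := H.eq_of_sameW' rfl three_ok
    have hg : (∀ x ∈ spiderConj.1, x < 10) ∧ (∀ x ∈ spiderConj.2, x < 10) := by decide
    simp only [evW_append, evW_wpow, evW_nil, hrev hg.1, hrev hg.2, ← hZ] at e
    rw [mul_assoc Z (evW S spiderConj.1) Z, ← (hZz (evW S spiderConj.1)).eq, ← mul_assoc Z Z,
      mul_inv_cancel_right, mul_assoc (Z * Z) (evW S spiderConj.2) Z,
      ← (hZz (evW S spiderConj.2)).eq, ← mul_assoc (Z * Z) Z, mul_inv_cancel_right] at e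
    exact e
  have hZ2 : Z * Z = 1 := by
    have e := H.eq_of_sameW' rfl trans_ok
    simp only [evW_append, evW_wpow, hrev (hU 3 (by decide)).1, hrev (hU 4 (by decide)).1, hrev hTl,
      ← hZ] at e
    change Z = U 0 ^ 3 * U 1 ^ 3 * U 2 * (U 3)⁻¹ * (U 4)⁻¹ * (T⁻¹) ^ 2 at e
    have hk : ∀ i < 6, (∀ g, Commute (U i ^ 3) g) ∧ U i ^ 3 * U i ^ 3 = 1 := fun i hi =>
      ⟨hzc (hU3 i hi), by rw [← pow_add]; exact (cube (hR i hi).2 (hU i hi).2 (hU3 i hi)).1⟩
    have u2 : U 2 = W 2 * U 2 ^ 3 := by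
      rw [hWe 2 (by decide), ← pow_add, show 4 + 3 = 6 + 1 from rfl, pow_succ,
        (cube (hR 2 (by decide)).2 (hU 2 (by decide)).2 (hU3 2 (by decide))).1, one_mul]
    have ui : ∀ i < 6, (U i)⁻¹ = W i ^ 2 * U i ^ 3 := fun i hi => by
      refine inv_eq_of_mul_eq_one_right ?_
      rw [hWe i hi, ← pow_mul, ← pow_add, ← pow_succ', show 4 * 2 + 3 + 1 = 6 * 2 from rfl, pow_mul,
        (cube (hR i hi).2 (hU i hi).2 (hU3 i hi)).1, one_pow]
    have tt : (T⁻¹) ^ 2 = A := by
      rw [← hTA, inv_pow]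
      refine inv_eq_of_mul_eq_one_right ?_
      rw [← pow_add]
      exact hT6
    set K := U 0 ^ 3 * U 1 ^ 3 * U 2 ^ 3 * U 3 ^ 3 * U 4 ^ 3 with hK
    have hKc : ∀ g, Commute K g := fun g =>
      ((((hk 0 (by decide)).1 g).mul_left ((hk 1 (by decide)).1 g)).mul_left
        ((hk 2 (by decide)).1 g)).mul_left ((hk 3 (by decide)).1 g) |>.mul_left ((hk 4 (by decide)).1 g)
    have hB : W 2 * W 3 ^ 2 * W 4 ^ 2 * A = 1 := by
      have : W 2 * W 3 ^ 2 * W 4 ^ 2 = piL W (fun l => [0, 0, 1, 2, 2, 0].getD l 0) 6 := by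
        simp [piL]
      rw [this, hA, piL_mul fun a ha b hb => hcomm a ha b hb,
        piL_mod hW (w := fun _ => 0) fun l hl => by interval_cases l <;> decide]
      simp [piL]
    have eZ : Z = K := by
      rw [e, u2, ui 3 (by decide), ui 4 (by decide), tt]
      have c2 := (hk 2 (by decide)).1
      have c3 := (hk 3 (by decide)).1
      have c4 := (hk 4 (by decide)).1
      calc U 0 ^ 3 * U 1 ^ 3 * (W 2 * U 2 ^ 3) * (W 3 ^ 2 * U 3 ^ 3) * (W 4 ^ 2 * U 4 ^ 3) * A
          = U 0 ^ 3 * U 1 ^ 3 * (U 2 ^ 3 * W 2) * (U 3 ^ 3 * W 3 ^ 2) * (U 4 ^ 3 * W 4 ^ 2) * A := by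
            rw [(c2 (W 2)).eq, (c3 (W 3 ^ 2)).eq, (c4 (W 4 ^ 2)).eq]
        _ = U 0 ^ 3 * U 1 ^ 3 * U 2 ^ 3 * ((W 2 * U 3 ^ 3) * ((W 3 ^ 2 * U 4 ^ 3) * W 4 ^ 2)) * A := by
            group
        _ = U 0 ^ 3 * U 1 ^ 3 * U 2 ^ 3 * ((U 3 ^ 3 * W 2) * ((U 4 ^ 3 * W 3 ^ 2) * W 4 ^ 2)) * A := by
            rw [(c3 (W 2)).eq, (c4 (W 3 ^ 2)).eq]
        _ = U 0 ^ 3 * U 1 ^ 3 * U 2 ^ 3 * U 3 ^ 3 * ((W 2 * U 4 ^ 3) * W 3 ^ 2 * W 4 ^ 2) * A := by
            group
        _ = U 0 ^ 3 * U 1 ^ 3 * U 2 ^ 3 * U 3 ^ 3 * ((U 4 ^ 3 * W 2) * W 3 ^ 2 * W 4 ^ 2) * A := by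
            rw [(c4 (W 2)).eq]
        _ = K * (W 2 * W 3 ^ 2 * W 4 ^ 2 * A) := by rw [hK]; group
        _ = K := by rw [hB, mul_one]
    have step : ∀ {a b : Γ}, (∀ g, Commute b g) → a * a = 1 → b * b = 1 → a * b * (a * b) = 1 :=
      fun {a b} hb ha hbb => by rw [(hb a).mul_mul_mul_comm, ha, hbb, one_mul]
    rw [eZ, hK]
    exact step (hk 4 (by decide)).1 (step (hk 3 (by decide)).1 (step (hk 2 (by decide)).1
      (step (hk 1 (by decide)).1 (hk 0 (by decide)).2 (hk 1 (by decide)).2) (hk 2 (by decide)).2)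
      (hk 3 (by decide)).2) (hk 4 (by decide)).2
  exact cube_inj hZ2 hZ3

end CfsgLib.Fi23Mult
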